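import Cfsg.Agent.Lib.SporadicB.HeCent.Data
import Cfsg.Agent.Lib.SporRecognition.Cert.He2058.Orbits

/-! Checks for an involution centraliser of He. -/

set_option autoImplicit false
set_option linter.all false
set_option Elab.async false

namespace CfsgLib.SporadicB.HeCent

open CfsgLib.SporRecognition.CosetCert (allBelow allPow allPow_append trace field sel wordTabs fixStep countLab)
open CfsgLib.SporRecognition.Cert.He2058 (tabs subT lab T4)

/-- The three elements, as words. -/
def wrd : Fin 3 → List (Cfsg.Spor.He.Gen × Bool) :=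
  ![[(.a, true)], [(.b, true)],
    [(.g, true), (.d, true), (.c, true), (.d, true), (.g, true), (.f, true), (.d, true), (.c, true), (.d, true), (.f, true)]]

noncomputable def tb (k : Fin 3) : Nat → Nat := ![tb0, tb1, tb2] k

/-- One bit of a code. -/
noncomputable def cbit (A i : Nat) : Bool := Nat.beq (Nat.land (Nat.shiftRight A i) 1) 1

/-- A row of a product of codes. -/
noncomputable def prodRow (A B r : Nat) : Nat :=
  Nat.xor (Nat.xor (bif cbit A (5 * r) then field B 5 0 else 0) (bif cbit A (5 * r + 1) then field B 5 1 else 0))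
    (Nat.xor (Nat.xor (bif cbit A (5 * r + 2) then field B 5 2 else 0) (bif cbit A (5 * r + 3) then field B 5 3 else 0))
      (bif cbit A (5 * r + 4) then field B 5 4 else 0))

noncomputable def prodOK (A B C : Nat) : Bool :=
  Nat.beq (prodRow A B 0) (field C 5 0) && Nat.beq (prodRow A B 1) (field C 5 1) &&
    Nat.beq (prodRow A B 2) (field C 5 2) && Nat.beq (prodRow A B 3) (field C 5 3) &&
    Nat.beq (prodRow A B 4) (field C 5 4)

noncomputable def keyStep (k : Fin 3) (j : Nat) : Bool :=
  Nat.blt (tb k j) 21504 && Nat.beq (trace (wordTabs tabs (wrd k)) (key0 j)) (key0 (tb k j)) &&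
    Nat.beq (trace (wordTabs tabs (wrd k)) (key1 j)) (key1 (tb k j)) && prodOK (mg k) (mc j) (mc (tb k j))

noncomputable def elemStep (j : Nat) : Bool :=
  Nat.blt (key0 j) 2058 && Nat.blt (key1 j) 2058 &&
    keyStep 0 j && keyStep 1 j && keyStep 2 j &&
    (bif Nat.beq j 0 then Nat.beq (key0 j) 4 && Nat.beq (key1 j) 5 && Nat.beq (mc j) 17043521 else
      Nat.blt (evia j) 3 && Nat.blt (esrc j) j &&
        Nat.beq (bif Nat.beq (evia j) 0 then tb0 (esrc j) else bif Nat.beq (evia j) 1 then tb1 (esrc j) else tb2 (esrc j)) j) &&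
    Nat.blt (srtK j) 21504 && Nat.blt (srtM j) 21504 &&
    (bif Nat.beq j 0 then true else
      Nat.blt (key0 (srtK (Nat.sub j 1)) + 4096 * key1 (srtK (Nat.sub j 1))) (key0 (srtK j) + 4096 * key1 (srtK j)) &&
        Nat.blt (mc (srtM (Nat.sub j 1))) (mc (srtM j)))

theorem elem_ok_0 : allPow 21504 elemStep 12 0 = true := by decide +kernel
theorem elem_ok_1 : allPow 21504 elemStep 12 4096 = true := by decide +kernel
theorem elem_ok_2 : allPow 21504 elemStep 12 8192 = true := by decide +kernel
theorem elem_ok_3 : allPow 21504 elemStep 12 12288 = true := by decide +kernel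
theorem elem_ok_4 : allPow 21504 elemStep 12 16384 = true := by decide +kernel
theorem elem_ok_5 : allPow 21504 elemStep 12 20480 = true := by decide +kernel
theorem elem_ok_6 : allPow 21504 elemStep 12 24576 = true := by decide +kernel
theorem elem_ok_7 : allPow 21504 elemStep 12 28672 = true := by decide +kernel

theorem gen_ok : (prodOK (mg 0) (mc 1) 17043521 && prodOK (mg 1) (mc 2) 17043521 && prodOK (mg 2) (mc 21) 17043521 &&
    (List.finRange 5).all (fun r => Nat.beq (prodRow (mg 0) 17043523 r) (prodRow 17043523 (mg 0) r) &&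
      Nat.beq (prodRow (mg 1) 17043523 r) (prodRow 17043523 (mg 1) r) &&
      Nat.beq (prodRow (mg 2) 17043523 r) (prodRow 17043523 (mg 2) r))) = true := by decide +kernel

/-- The three elements commute with `d`. -/
theorem comm_ok : allBelow 12 2058 (fun u =>
    Nat.beq (trace (wordTabs tabs (wrd 0)) (T4 u)) (T4 (trace (wordTabs tabs (wrd 0)) u)) &&
    Nat.beq (trace (wordTabs tabs (wrd 1)) (T4 u)) (T4 (trace (wordTabs tabs (wrd 1)) u)) &&
    Nat.beq (trace (wordTabs tabs (wrd 2)) (T4 u)) (T4 (trace (wordTabs tabs (wrd 2)) u))) = true := by decide +kernel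

theorem fix_count : countLab 12 2058 (fun u => bif Nat.beq (T4 u) u then 1 else 0) 1 = 42 := by decide +kernel

noncomputable def img (j i : Nat) : Nat := field (imgs j) 12 i

def idx16 : List Nat := [0, 1, 2, 3, 4, 5, 6, 7, 8, 9, 10, 11, 12, 13, 14, 15]

/-- The set of the sixteen images as a bit mask. -/
noncomputable def mask (j : Nat) : Nat :=
  List.rec 0 (fun i _ acc => Nat.lor acc (Nat.shiftLeft 1 (img j i))) idx16

noncomputable def classStep (j : Nat) : Bool :=
  (bif Nat.beq j 0 then true else
    Nat.blt (cvia j) 7 && Nat.blt (csrc j) j &&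
      idx16.all (fun i => Nat.beq (sel subT (cvia j) (img (csrc j) i)) (img j i))) &&
    idx16.all (fun i => Nat.blt (img j i) 2058) && Nat.blt (srtC j) 3825 &&
    (bif Nat.beq j 0 then true else Nat.blt (mask (srtC (Nat.sub j 1))) (mask (srtC j)))

theorem class_ok_0 : allPow 3825 classStep 10 0 = true := by decide +kernel
theorem class_ok_1 : allPow 3825 classStep 10 1024 = true := by decide +kernel
theorem class_ok_2 : allPow 3825 classStep 10 2048 = true := by decide +kernel
theorem class_ok_3 : allPow 3825 classStep 10 3072 = true := by decide +kernel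

/-- The first sixteen images are exactly the fixed points of `d` in the first suborbit. -/
theorem base_set_ok : allBelow 12 2058 (fun u =>
    Bool.xor (Nat.beq (T4 u) u && Nat.beq (lab u) 1) (idx16.any fun i => Nat.beq (img 0 i) u) == false) = true := by
  decide +kernel

theorem elem_all : allBelow 15 21504 elemStep = true :=
  CfsgLib.SporRecognition.CosetCert.allBelow_of_upto (hi := 32768)
    (CfsgLib.SporRecognition.CosetCert.Upto.of_pow (d := 15) (allPow_append (allPow_append (allPow_append elem_ok_0 elem_ok_1)
      (allPow_append elem_ok_2 elem_ok_3)) (allPow_append (allPow_append elem_ok_4 elem_ok_5) (allPow_append elem_ok_6 elem_ok_7)))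
      (Nat.le_refl _)) (by decide) (by decide)

theorem class_all : allBelow 12 3825 classStep = true :=
  CfsgLib.SporRecognition.CosetCert.allBelow_of_upto (hi := 4096)
    (CfsgLib.SporRecognition.CosetCert.Upto.of_pow (d := 12) (allPow_append (allPow_append class_ok_0 class_ok_1)
      (allPow_append class_ok_2 class_ok_3)) (Nat.le_refl _)) (by decide) (by decide)

end CfsgLib.SporadicB.HeCent
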